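import Groth.Agent.ExtShX.Divisor
import Groth.Agent.RefStalk.Refl
import Groth.Agent.CurveRR.Multi2
import Groth.Agent.W7Hull.LiftHom
import Groth.Agent.K0Coh.Basic

/-!
Biduality `F ⟶ 𝓗om(𝓗om(F, N), N)` and the second Ext sheaf of a two-term resolution.
-/

set_option autoImplicit false
set_option linter.style.haveILetI false
set_option linter.unusedSectionVars false
set_option backward.isDefEq.respectTransparency false
set_option backward.isDefEq.respectTransparency.types false

universe u

open CategoryTheory CategoryTheory.Limits AlgebraicGeometry TopologicalSpace Opposite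
open Groth.Agent.QC (res res_res res_smul app_res)
open Groth.Agent.WeakAssLib (mgerm mgerm_smul mgerm_res)

noncomputable section

namespace Groth.Agent.CurveBidual

variable {X : Scheme.{u}}

/-- Evaluation at an element of the stalk. -/
def bidAt (F N : X.Modules) (x : X) :
    F.presheaf.stalk x →ₗ[X.presheaf.stalk x] RefHull.StalkHom (RefHull.homSh F N) N x where
  toFun v := (LinearMap.applyₗ v).comp (RefHull.evalStalk F N x)
  map_add' v w := LinearMap.ext fun θ => map_add (RefHull.evalStalk F N x θ) v w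
  map_smul' a v := LinearMap.ext fun θ => map_smul (RefHull.evalStalk F N x θ) a v

lemma bidAt_apply (F N : X.Modules) (x : X) (v : F.presheaf.stalk x)
    (θ : (RefHull.homSh F N).presheaf.stalk x) : bidAt F N x v θ = RefHull.evalStalk F N x θ v := rfl

/-- Biduality on sections. -/
def bidFun (F N : X.Modules) (U : X.Opens) :
    Γ(F, U) →+ Γ(RefHull.homSh (RefHull.homSh F N) N, U) where
  toFun s := ⟨fun x => bidAt F N x.1 (F.presheaf.germ U x.1 x.2 s), fun V i g x => by
    obtain ⟨W, hW, j, n, w⟩ := RefHull.isLocSect_of_mem g V (𝟙 V) (F.presheaf.map i.op s) x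
    refine ⟨W, hW, j, n, fun y => ?_⟩
    have e := w y
    rw [TopCat.Presheaf.germ_res_apply] at e
    rw [bidAt_apply, RefHull.evalStalk_germ]
    exact e⟩
  map_zero' := Subtype.ext <| funext fun x => by
    simp only [map_zero]
    rfl
  map_add' s t := Subtype.ext <| funext fun x => by
    simp only [map_add]
    rfl

/-- Biduality with values in `N`. -/
def bid (F N : X.Modules) : F ⟶ RefHull.homSh (RefHull.homSh F N) N :=
  ⟨PresheafOfModules.homMk
    { app := fun U => AddCommGrpCat.ofHom (bidFun F N U.unop)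
      naturality := fun {U V} i => by
        ext s
        refine Subtype.ext (funext fun x => ?_)
        change bidAt F N x.1 _ = bidAt F N x.1 _
        exact congrArg _ (TopCat.Presheaf.germ_res_apply' F.presheaf i x.1 x.2 s) }
    (fun U r s => Subtype.ext <| funext fun x =>
      (congrArg (bidAt F N x.1) (Mero.germ_smul F U.unop x.1 x.2 r s)).trans
        (map_smul (bidAt F N x.1) _ _))⟩

lemma bid_app (F N : X.Modules) {U : X.Opens} (s : Γ(F, U)) (x : U) :
    ((bid F N).app U s).1 x = bidAt F N x.1 (F.presheaf.germ U x.1 x.2 s) := rfl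

theorem bid_naturality {F G : X.Modules} (φ : F ⟶ G) (N : X.Modules) :
    bid F N ≫ RefFun.homComap (RefFun.homComap φ N) N = φ ≫ bid G N := by
  apply Scheme.Modules.hom_ext
  intro U
  ext s
  refine Subtype.ext (funext fun x => LinearMap.ext fun θ => ?_)
  obtain ⟨V, hx, g, rfl⟩ := TopCat.Presheaf.exists_germ_eq (RefHull.homSh G N).presheaf θ
  change (((bid F N).app U s).1 x).comp (RefHull.stalkMapₗ (RefFun.homComap φ N) x.1)
      ((RefHull.homSh G N).presheaf.germ V x.1 hx g) =
    ((bid G N).app U (φ.app U s)).1 x ((RefHull.homSh G N).presheaf.germ V x.1 hx g)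
  rw [LinearMap.comp_apply, RefHull.stalkMapₗ_germ, bid_app, bid_app, bidAt_apply, bidAt_apply,
    RefHull.evalStalk_germ, RefHull.evalStalk_germ, RefFun.homComap_app_apply, LinearMap.comp_apply,
    RefHull.stalkMapₗ_germ]

/-- Biduality is an isomorphism on vector bundles. -/
theorem isIso_bid [IsLocallyNoetherian X] {E N : X.Modules} (hE : FlatMod.IsFinLocFree E)
    (hN : PicF.IsInvertible N) : IsIso (bid E N) := by
  have hEc := K0Coh.isCoh_of_isFinLocFree hE
  have hNc := K0Coh.isCoh_of_isFinLocFree (ResDesc.isFinLocFree_of_isInvertible hN)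
  refine ZCl.isIso_of_stalk _ fun x => ?_
  obtain ⟨e⟩ := CurveRR.Multi.nonempty_stalk_equiv hN x
  haveI := LocFree.free_stalk_of_isFinLocFree hE x
  haveI := RegDual.finite_stalk hEc x
  let ev := LinearEquiv.ofBijective _ (RefStalk.bijective_evalStalk_of_isCoh (G := N) hEc x)
  let D : (RefHull.homSh E N).presheaf.stalk x ≃ₗ[X.presheaf.stalk x]
      Module.Dual (X.presheaf.stalk x) (E.presheaf.stalk x) :=
    ev ≪≫ₗ LinearEquiv.arrowCongr (LinearEquiv.refl _ _) e.symm
  let Ψ : Module.Dual (X.presheaf.stalk x) (Module.Dual (X.presheaf.stalk x) (E.presheaf.stalk x)) ≃ₗ[X.presheaf.stalk x]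
      RefHull.StalkHom (RefHull.homSh E N) N x :=
    LinearEquiv.arrowCongr D.symm e
  have h : (bidAt E N x : E.presheaf.stalk x → _) =
      Ψ ∘ Module.Dual.eval (X.presheaf.stalk x) (E.presheaf.stalk x) := by
    funext v
    refine LinearMap.ext fun θ => ?_
    change RefHull.evalStalk E N x θ v = e (e.symm (ev θ v))
    rw [e.apply_symm_apply]
    rfl
  have hb : Function.Bijective (bidAt E N x) := by
    rw [h, Ψ.bijective.of_comp_iff']
    exact (Module.IsReflexive.bijective_dual_eval' (R := X.presheaf.stalk x) (M := E.presheaf.stalk x))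
  have he : (fun v => RefHull.evalStalk (RefHull.homSh E N) N x (RefHull.stalkMapₗ (bid E N) x v)) =
      bidAt E N x := by
    funext v
    obtain ⟨U, hU, s, rfl⟩ := TopCat.Presheaf.exists_germ_eq E.presheaf v
    rw [RefHull.stalkMapₗ_germ, RefHull.evalStalk_germ, bid_app]
  have hev := RefStalk.bijective_evalStalk_of_isCoh (G := N) (RefStalk.isCoh_homSh hEc hNc) x
  refine (hev.of_comp_iff' _).1 ?_
  show Function.Bijective (fun v => RefHull.evalStalk (RefHull.homSh E N) N x (RefHull.stalkMapₗ (bid E N) x v))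
  rw [he]
  exact hb

lemma map_left_tm {F F' : X.Modules} (f : F ⟶ F') (M : X.Modules) {U : X.Opens} (a : Γ(F, U)) (b : Γ(M, U)) :
    (((DCoh.tensorBi (X := X)).map f).app M).app U (TMul.tm a b) = TMul.tm (f.app U a) b := by
  let adj := PresheafOfModules.sheafificationAdjunction.{u, u, u, u} (J := Opens.grothendieckTopology X) (𝟙 X.ringCatSheaf.obj)
  let g := MonoidalCategory.whiskerRight (DCoh.toP.map f) (CohB1.toPMod M)
  exact (congr(($(adj.unit.naturality g)).app (op U) (a ⊗ₜ[Γ(X, U)] b))).symm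

theorem cur_homComap {F F' M N : X.Modules} (φ : F ⟶ F') (g : CohB1.tensorMod F' M ⟶ N) :
    W7Hull.cur g ≫ RefFun.homComap φ N = W7Hull.cur (((DCoh.tensorBi (X := X)).map φ).app M ≫ g) := by
  apply Scheme.Modules.hom_ext
  intro U
  ext m
  refine Subtype.ext (funext fun x => W7Hull.stalkHom_ext x.2 fun V hV hxV a => ?_)
  refine Eq.trans ?_ (W7Hull.cur_app _ m x.2 hV hxV a).symm
  change ((W7Hull.cur g).app U m).1 x (RefHull.stalkMapₗ φ x.1 (mgerm F hxV a)) = _
  rw [RefHull.stalkMapₗ_germ]
  refine (W7Hull.cur_app g m x.2 hV hxV _).trans ?_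
  show _ = mgerm N hxV (g.app V ((((DCoh.tensorBi (X := X)).map φ).app M).app V (TMul.tm a (res M hV m))))
  rw [map_left_tm]

theorem homEquiv_sheafHomIso (F : X.Modules) {Y N : X.Modules}
    (g : ((DCoh.tensorBi (X := X)).obj F).obj Y ⟶ N) :
    (DCoh.sheafHomAdj F).homEquiv Y N g ≫ (W7Hull.sheafHomIso F).hom.app N = W7Hull.cur g := by
  rw [Adjunction.homEquiv_unit, Category.assoc, (W7Hull.sheafHomIso F).hom.naturality g, ← Category.assoc]
  refine Eq.trans (congrArg (· ≫ _) (Adjunction.unit_rightAdjointUniq_hom_app (DCoh.sheafHomAdj F)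
    (W7Hull.homShAdj F) Y)) ?_
  refine ((W7Hull.homShAdj F).homEquiv_unit (X := Y) (Y := N) (f := g)).symm.trans ?_
  rw [W7Hull.homShAdj, Adjunction.mkOfHomEquiv_homEquiv]
  rfl

/-- Functoriality in the first variable is precomposition. -/
theorem pre_eq {F F' : X.Modules} (φ : F ⟶ F') (N : X.Modules) :
    (ExtShX.pre φ).app N ≫ (W7Hull.sheafHomIso F).hom.app N =
      (W7Hull.sheafHomIso F').hom.app N ≫ RefFun.homComap φ N := by
  obtain ⟨g, hg⟩ := ((DCoh.sheafHomAdj F').homEquiv _ N).surjective (𝟙 ((DCoh.sheafHom F').obj N))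
  have h1 : 𝟙 _ ≫ (ExtShX.pre φ).app N ≫ (W7Hull.sheafHomIso F).hom.app N =
      𝟙 _ ≫ (W7Hull.sheafHomIso F').hom.app N ≫ RefFun.homComap φ N := by
    rw [← hg, ← Category.assoc, ← Category.assoc, ExtShX.homEquiv_pre, homEquiv_sheafHomIso, homEquiv_sheafHomIso,
      cur_homComap]
  simpa using h1

/-- Ext sheaves depend on the first variable up to isomorphism. -/
theorem nonempty_R_congr {F F' : X.Modules} (e : F ≅ F') (q : ℕ) (N : X.Modules) :
    Nonempty ((ExtShX.R F' q).obj N ≅ (ExtShX.R F q).obj N) := by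
  let α : DCoh.sheafHom F' ≅ DCoh.sheafHom F :=
    conjugateIsoEquiv (DCoh.sheafHomAdj F') (DCoh.sheafHomAdj F) ((DCoh.tensorBi (X := X)).mapIso e)
  exact ⟨(GrothSS.rightDerivedMapIso α q).app N⟩

/-- `ℰxt¹` of the third term of a short exact sequence with locally free middle. -/
theorem nonempty_one {S : ShortComplex X.Modules} (hS : S.ShortExact) (h2 : FlatMod.IsFinLocFree S.X₂)
    (N : X.Modules) : Nonempty ((ExtShX.R S.X₃ 1).obj N ≅ cokernel (RefFun.homComap S.f N)) := by
  obtain ⟨e⟩ := ExtShX.nonempty_firstOne hS N (fun q => ExtShX.isZero_of_finLocFree _ h2 q N)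
  exact ⟨e ≪≫ cokernel.mapIso _ _ ((W7Hull.sheafHomIso S.X₂).app N) ((W7Hull.sheafHomIso S.X₁).app N)
    (pre_eq S.f N)⟩

/-- Biduality for a module with a two-term resolution by vector bundles. -/
theorem nonempty_bidual [IsLocallyNoetherian X] {S : ShortComplex X.Modules} (hS : S.ShortExact)
    (h1 : FlatMod.IsFinLocFree S.X₁) (h2 : FlatMod.IsFinLocFree S.X₂) {N : X.Modules} (hN : PicF.IsInvertible N)
    (hm : Mono (RefFun.homComap S.f N)) :
    Nonempty ((ExtShX.R ((ExtShX.R S.X₃ 1).obj N) 1).obj N ≅ S.X₃) := by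
  haveI := hm
  obtain ⟨e⟩ := nonempty_one hS h2 N
  let T : ShortComplex X.Modules := ShortComplex.mk (RefFun.homComap S.f N) (cokernel.π _) (cokernel.condition _)
  have hT : T.ShortExact := { exact := ShortComplex.exact_cokernel _ }
  have hNf := ResDesc.isFinLocFree_of_isInvertible hN
  obtain ⟨eT⟩ := nonempty_one hT (W7Hull.isFinLocFree_homSh h1 hNf) N
  obtain ⟨a⟩ := nonempty_R_congr e.symm 1 N
  haveI := isIso_bid h1 hN
  haveI := isIso_bid h2 hN
  haveI := hS.epi_g
  let c : cokernel S.f ≅ cokernel (RefFun.homComap (RefFun.homComap S.f N) N) :=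
    cokernel.mapIso _ _ (asIso (bid S.X₁ N)) (asIso (bid S.X₂ N)) (bid_naturality S.f N).symm
  exact ⟨a ≪≫ eT ≪≫ c.symm ≪≫ (cokernelIsCokernel S.f).coconePointUniqueUpToIso hS.gIsCokernel⟩

end Groth.Agent.CurveBidual
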