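import Groth.Agent.CurveBidual.Xi
import Groth.Agent.S1526
import Groth.Agent.S1527
import Groth.Agent.GGDesc.Nhd
import Groth.Agent.CurveRR.GGVanish
import Groth.Agent.CohFinite.AmpleFinite
import Groth.Agent.CurveRR.Euler

/-!
Base-point-free parts and duals of rank-one sheaves on a curve in a surface.
-/

set_option autoImplicit false
set_option linter.style.haveILetI false
set_option linter.unusedSectionVars false
set_option backward.isDefEq.respectTransparency false
set_option backward.isDefEq.respectTransparency.types false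

universe u

open CategoryTheory CategoryTheory.Limits AlgebraicGeometry TopologicalSpace Abelian
open Groth.Agent.WeakAssLib (mgerm stalkHom)
open Groth.Agent.CohFinite
open Groth.Agent.SiteCoh (huTerminalEquiv hu0)

noncomputable section

namespace Groth.Agent.CurveBidual

/-- Surjectivity on sections from surjectivity on cohomology in degree zero. -/
theorem surjective_app_top {X : Scheme.{u}} {M N : X.Modules} (φ : M ⟶ N)
    (h : Function.Surjective (Sheaf.H.map (Groth.Agent.CohFinite.toAbMap φ) 0)) : Function.Surjective (φ.app ⊤) := fun s => by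
  let e : ∀ K : X.Modules, Coh.HH X K 0 ≃+ Γ(K, ⊤) := fun K =>
    (huTerminalEquiv (Opens.grothendieckTopology X) (T := (⊤ : Opens X)) isTerminalTop (Coh.toAb K) 0).trans
      (hu0 (Coh.toAb K) (⊤ : Opens X))
  obtain ⟨y, hy⟩ := (e N).surjective s
  obtain ⟨z, rfl⟩ := h y
  refine ⟨e M z, ?_⟩
  rw [← hy]
  show _ = hu0 (Coh.toAb N) (⊤ : Opens X) (huTerminalEquiv (Opens.grothendieckTopology X) isTerminalTop (Coh.toAb N) 0
    (Sheaf.H.map (toAbMap φ) 0 z))
  rw [ProjCech.huTerminalEquiv_natural, hu0_natural]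
  rfl

/-- An extension of globally generated modules with surjective sections is globally generated. -/
theorem gg_of_extension {X : Scheme.{u}} {T : ShortComplex X.Modules} (hT : T.ShortExact)
    (h1 : Curv2.IsGloballyGenerated T.X₁) (h3 : Curv2.IsGloballyGenerated T.X₃)
    (hs : Function.Surjective (T.g.app ⊤)) : Curv2.IsGloballyGenerated T.X₂ := by
  let p : (SheafOfModules.free (R := X.ringCatSheaf) Γ(T.X₂, ⊤) : X.Modules) ⟶ T.X₂ := Sigma.desc fun t => TMul.homOf t
  refine ⟨Γ(T.X₂, ⊤), p, Preadditive.epi_of_cancel_zero _ fun {Z} ψ hψ => ?_⟩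
  have hk : ∀ t : Γ(T.X₂, ⊤), TMul.homOf t ≫ ψ = 0 := fun t => by
    have e : Sigma.ι (fun _ : Γ(T.X₂, ⊤) => SheafOfModules.unit X.ringCatSheaf) t ≫ p = TMul.homOf t := Sigma.ι_desc _ t
    rw [← e]
    exact (Category.assoc _ _ _).trans ((congrArg _ hψ).trans comp_zero)
  have hn : ∀ {A B : X.Modules} (f : A ⟶ B) (s : Γ(A, ⊤)), TMul.homOf s ≫ f = TMul.homOf (f.app ⊤ s) := fun f s =>
    TMul.hom_ext_val (by rw [TMul.val_comp, TMul.val_homOf, TMul.val_homOf, ← QC.app_res f])
  have hf : T.f ≫ ψ = 0 := CurveRR.eq_zero_of_gg h1 _ fun s => by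
    rw [← Category.assoc, hn]
    exact hk _
  haveI := hT.epi_g
  obtain ⟨ψ', rfl⟩ : ∃ ψ', T.g ≫ ψ' = ψ := ⟨hT.exact.desc ψ hf, hT.exact.g_desc ψ hf⟩
  have : ψ' = 0 := CurveRR.eq_zero_of_gg h3 _ fun s => by
    obtain ⟨t, rfl⟩ := hs s
    rw [← hn, Category.assoc]
    exact hk t
  rw [this, comp_zero]

variable (k : Type u) [Field k] {S : Scheme.{u}} [S.Over (Spec (CommRingCat.of k))]

/-- Dimension form of the same. -/
theorem gg_of_h1 [IsProper (S ↘ Spec (CommRingCat.of k))] {T : ShortComplex S.Modules} (hT : T.ShortExact)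
    (h1c : Coh.IsCoh T.X₁) (h2c : Coh.IsCoh T.X₂) (h3c : Coh.IsCoh T.X₃)
    (hd : topologicalKrullDim (CohB1.support T.X₃) ≤ 0) (h1 : Curv2.IsGloballyGenerated T.X₁)
    (he : Module.finrank k (Coh.HH S T.X₁ 1) = Module.finrank k (Coh.HH S T.X₂ 1)) :
    Curv2.IsGloballyGenerated T.X₂ := by
  haveI := finite_proper k S _ h1c 1
  haveI := finite_proper k S _ h2c 1
  haveI := S1526.result k S _ h3c hd 1 le_rfl
  let f := hhMap k T.f 1
  have hsur : Function.Surjective f := by
    rw [← LinearMap.range_eq_top, CurveRR.range_f_eq_ker_g (k := k) hT 1]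
    exact eq_top_iff.2 fun x _ => Subsingleton.elim _ _
  have hinj : Function.Injective f := (LinearMap.injective_iff_surjective_of_finrank_eq_finrank he).2 hsur
  have hg : Function.Surjective (hhMap k T.g 0) := by
    rw [← LinearMap.range_eq_top, CurveRR.range_g_eq_ker_δ (k := k) hT 0, LinearMap.ker_eq_top, ← LinearMap.range_eq_bot,
      CurveRR.range_δ_eq_ker_f (k := k) hT 0]
    exact LinearMap.ker_eq_bot.2 hinj
  exact gg_of_extension hT h1 (S1527.result k S _ h3c hd) (surjective_app_top T.g hg)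

/-- A bijective comparison of first Ext duals away from the cokernel. -/
theorem exists_dualMap [IsLocallyNoetherian S] {B G : S.Modules} (ι : B ⟶ G) [Mono ι] (N : S.Modules)
    (hG : Coh.IsCoh G) (hB : Coh.IsCoh B) :
    ∃ ψ : (ExtShX.R G 1).obj N ⟶ (ExtShX.R B 1).obj N,
      ∀ x : S, Subsingleton ((cokernel ι : S.Modules).presheaf.stalk x) → Function.Bijective (RefHull.stalkMapₗ ψ x) := by
  let T : ShortComplex S.Modules := ShortComplex.mk ι (cokernel.π ι) (cokernel.condition ι)
  have hT : T.ShortExact := { exact := ShortComplex.exact_cokernel ι }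
  let I := injectiveResolution N
  let P := ExtShX.preCx (S := T) I.cocomplex
  have hP : P.ShortExact := ExtShX.preCx_shortExact hT N
  let a : (ExtShX.R G 1).obj N ≅ P.X₂.homology 1 := I.isoRightDerivedObj _ 1
  let b : (ExtShX.R B 1).obj N ≅ P.X₃.homology 1 := I.isoRightDerivedObj _ 1
  refine ⟨a.hom ≫ HomologicalComplex.homologyMap P.g 1 ≫ b.inv, fun x hx => ?_⟩
  let st := DerSch.stalkFunctor S x
  have hK : Coh.IsCoh (cokernel ι : S.Modules) := QC.isCoh_cokernel hB.1 hG ι
  have hz : ∀ q, IsZero (st.obj ((ExtShX.R (cokernel ι : S.Modules) q).obj N)) := fun q => by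
    obtain ⟨e⟩ := ExtShX.nonempty_stalk_R (cokernel ι : S.Modules) hK x q N
    refine IsZero.of_iso ?_ e
    haveI : HasProjectiveDimensionLT (st.obj (cokernel ι : S.Modules)) 0 :=
      (hasProjectiveDimensionLT_zero_iff_isZero _).2
        (@ModuleCat.isZero_of_subsingleton _ _ (st.obj (cokernel ι : S.Modules)) hx)
    haveI := HasProjectiveDimensionLT.subsingleton (st.obj (cokernel ι : S.Modules)) 0 q (Nat.zero_le _) (st.obj N)
    exact ModuleCat.isZero_of_subsingleton _
  have h2 := (hP.homology_exact₂ 1).map st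
  have h3 := (hP.homology_exact₃ 1 2 rfl).map st
  have z1 : IsZero (st.obj (P.X₁.homology 1)) := (hz 1).of_iso (st.mapIso (I.isoRightDerivedObj _ 1)).symm
  have z2 : IsZero (st.obj (P.X₁.homology 2)) := (hz 2).of_iso (st.mapIso (I.isoRightDerivedObj _ 2)).symm
  haveI : Mono (st.map (HomologicalComplex.homologyMap P.g 1)) := h2.mono_g (z1.eq_of_src _ _)
  haveI : Epi (st.map (HomologicalComplex.homologyMap P.g 1)) := h3.epi_f (z2.eq_of_tgt _ _)
  haveI : IsIso (st.map (HomologicalComplex.homologyMap P.g 1)) := isIso_of_mono_of_epi _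
  haveI : IsIso (st.map (a.hom ≫ HomologicalComplex.homologyMap P.g 1 ≫ b.inv)) := by
    rw [Functor.map_comp, Functor.map_comp]
    infer_instance
  exact ConcreteCategory.bijective_of_isIso (st.map (a.hom ≫ HomologicalComplex.homologyMap P.g 1 ≫ b.inv))

variable [IsAlgClosed k] [CharZero k] [IsIntegral S] [Smooth (S ↘ Spec (CommRingCat.of k))]
  [IsProper (S ↘ Spec (CommRingCat.of k))] (hdim : topologicalKrullDim S = 2) {ω : S.Modules}
  (hω : Canon.IsTopDiff (S ↘ Spec (CommRingCat.of k)) 2 ω)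
  {C : Scheme.{u}} (j : C ⟶ S) [IsClosedImmersion j] [IsIntegral C] (hC : topologicalKrullDim C = 1)

include k hdim hω hC in
/-- Biduality for pure sheaves. -/
theorem Pure.nonempty_bidual {F : S.Modules} (h : Pure j F) :
    Nonempty ((ExtShX.R ((ExtShX.R F 1).obj ω) 1).obj ω ≅ F) := by
  haveI := CurveRR.isNoetherian_of_proper k S
  obtain ⟨T, hT, h1, h2, rfl⟩ := h.exists_res k hdim
  exact CurveBidual.nonempty_bidual hT h1 h2 (isInvertible_omega k hdim hω)
    (mono_res k hdim hω hT (h.generic hdim hC))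

include k hdim hω hC in
/-- Duality: first cohomology is dual to sections of the Ext dual. -/
theorem Pure.h1_eq {F : S.Modules} (h : Pure j F) :
    Module.finrank k (Coh.HH S F 1) = Module.finrank k (Coh.HH S ((ExtShX.R F 1).obj ω) 0) := by
  haveI := CurveRR.isNoetherian_of_proper k S
  haveI := SerrePn.enoughInjectives (X := S)
  haveI : HasExt.{u} S.Modules := hasExt_of_enoughInjectives S.Modules
  haveI := SurfAdj.smooth2 k hdim (X := S)
  obtain ⟨N, ι, hι₁, hι⟩ := SurfAdj.exists_emb k hdim (X := S)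
  haveI := hι₁
  obtain ⟨t, ht⟩ := ExtFund.exists_trace_smooth ι hι ω hω
  obtain ⟨d⟩ := (SerrePn.duality_of_cm ι hι (fun x hx => ExtFund.cm_dim_of_smooth (S ↘ Spec (CommRingCat.of k)) 2 x hx)
    ω (ExtFund.isCoh_top ι hι hω) t ht F h.coh 1).1 one_le_two
  have hi := isInvertible_omega k hdim hω
  haveI := h.generic hdim hC
  obtain ⟨g⟩ := ext_one_h0 k F ω fun p => W7Hull.hh_subsingleton_of_isZero
    ((isZero_homSh (LocFree.isQCoh_of_isFinLocFree (ResDesc.isFinLocFree_of_isInvertible hi)) fun x => by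
      obtain ⟨e⟩ := CurveRR.Multi.nonempty_stalk_equiv hi x
      exact e.symm.injective.moduleIsTorsionFree e.symm (by simp)).of_iso
      (ExtShX.zeroIso F ω ≪≫ (W7Hull.sheafHomIso F).app ω)) _
  exact Subspace.dual_finrank_eq.symm.trans (d.symm.trans g).finrank_eq

include k hdim hω hC in
/-- The double base-point-free dual and its dual are globally generated. -/
theorem gg_double_dual {M : C.Modules} (hM : Coh.IsCoh M) (hMtf : TorSh.IsTorsionFree M)
    (hrk : Module.finrank (C.presheaf.stalk (genericPoint C)) (M.presheaf.stalk (genericPoint C)) = 1)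
    (h0 : 0 < Module.finrank k (Coh.HH S ((Coh.push j).obj M) 0))
    (h1 : 0 < Module.finrank k (Coh.HH S ((Coh.push j).obj M) 1))
    (A' : S.Modules) (ι₁ : A' ⟶ (Coh.push j).obj M) [Mono ι₁] (hA'c : Coh.IsCoh A')
    (hA'g : Curv2.IsGloballyGenerated A') (hA'0 : Function.Surjective (Canon.HHlin k ι₁ 0))
    (B : S.Modules) (ι₂ : B ⟶ (ExtShX.R A' 1).obj ω) [Mono ι₂] (hBc : Coh.IsCoh B)
    (hBg : Curv2.IsGloballyGenerated B) (hB0 : Function.Surjective (Canon.HHlin k ι₂ 0)) :
    Curv2.IsGloballyGenerated ((ExtShX.R B 1).obj ω) ∧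
      Curv2.IsGloballyGenerated ((ExtShX.R ((ExtShX.R B 1).obj ω) 1).obj ω) := by
  haveI := CurveRR.isNoetherian_of_proper k S
  have pM := pure_push k hdim j hC hM hMtf
  have pA := pM.sub k hdim ι₁ hA'c
  have pG := pA.dual k hdim hω hC
  have pB := pG.sub k hdim ι₂ hBc
  obtain ⟨eB⟩ := pB.nonempty_bidual k hdim hω j hC
  refine ⟨?_, GGDesc.isGloballyGenerated_of_iso eB.symm hBg⟩
  have sM := small_push (j := j) hrk
  have sA := sM.of_injective (RefHull.stalkMapₗ ι₁ (xi j)) (WeakAssLib.stalkHom_injective ι₁ _)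
  have sG := pA.small_dual k hdim hω hC sA
  have hvan : ∀ {F : S.Modules}, Pure j F → Subsingleton (F.presheaf.stalk (xi j)) → ∀ i,
      Subsingleton (Coh.HH S F i) := fun pF h0 i =>
    W7Hull.hh_subsingleton_of_isZero (W7Baer.isZero_of_stalks _ fun x =>
      @ModuleCat.isZero_of_subsingleton _ _ ((DerSch.stalkFunctor S x).obj _) (pF.subsingleton k hdim hC h0 x)) i
  have hfull : ∀ {F' F : S.Modules} (i : F' ⟶ F) [Mono i],
      Small (S.presheaf.stalk (xi j)) (F.presheaf.stalk (xi j)) → ¬ Subsingleton (F'.presheaf.stalk (xi j)) →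
      Function.Surjective (RefHull.stalkMapₗ i (xi j)) := by
    intro F' F i _ hs hne u
    haveI := not_subsingleton_iff_nontrivial.1 hne
    obtain ⟨v, hv⟩ := exists_ne (0 : F'.presheaf.stalk (xi j))
    have hi : Function.Injective (RefHull.stalkMapₗ i (xi j)) := WeakAssLib.stalkHom_injective i _
    obtain ⟨r, hr⟩ := hs.2 u (RefHull.stalkMapₗ i (xi j) v) fun h => hv (hi (h.trans (map_zero _).symm))
    exact ⟨r • v, by rw [map_smul, hr]⟩
  have hA : ¬ Subsingleton (A'.presheaf.stalk (xi j)) := fun hc => by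
    haveI := hvan pA hc 0
    haveI : Subsingleton (Coh.HH S ((Coh.push j).obj M) 0) := hA'0.subsingleton
    rw [Module.finrank_zero_of_subsingleton] at h0
    exact lt_irrefl _ h0
  have hsupp : ∀ {F' F : S.Modules} (i : F' ⟶ F) [Mono i], Pure j F' → Pure j F →
      Function.Surjective (RefHull.stalkMapₗ i (xi j)) →
      Coh.IsCoh (cokernel i : S.Modules) ∧
        topologicalKrullDim (CohB1.support (cokernel i : S.Modules)) ≤ 0 := by
    intro F' F i _ pF' pF hs
    have hc : Coh.IsCoh (cokernel i : S.Modules) := QC.isCoh_cokernel pF'.coh.1 pF.coh i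
    refine ⟨hc, Intersect.dim_le_zero_of_closedPoints (QC.isClosed_support hc.2) fun y hy => ?_⟩
    obtain ⟨c, rfl⟩ : y ∈ Set.range j := not_not.1 fun hn => hy <| by
      haveI := pF.supp y hn
      exact (SerrePn.stalk_surjective_of_epi (cokernel.π i) y).subsingleton
    have hcne : c ≠ genericPoint C := fun e => hy <| by
      subst e
      refine subsingleton_of_forall_eq 0 fun v => ?_
      obtain ⟨w, rfl⟩ := SerrePn.stalk_surjective_of_epi (cokernel.π i) (xi j) v
      obtain ⟨z, rfl⟩ := hs w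
      exact ((ShortComplex.ShortExact.moduleCat_exact_iff_function_exact _).1
        (({ exact := ShortComplex.exact_cokernel i } : (ShortComplex.mk i (cokernel.π i) (cokernel.condition i)).ShortExact).map_of_exact
          (DerSch.stalkFunctor S (xi j))).exact _).2 ⟨z, rfl⟩
    simpa using j.isClosedEmbedding.isClosedMap _ (Castel.isClosed_of_ne_genericPoint hC.le hcne)
  have hA1 : 0 < Module.finrank k (Coh.HH S A' 1) := by
    obtain ⟨hQc, hQd⟩ := hsupp ι₁ pA pM (hfull ι₁ sM hA)
    have hT : (ShortComplex.mk ι₁ (cokernel.π ι₁) (cokernel.condition ι₁)).ShortExact :=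
      { exact := ShortComplex.exact_cokernel ι₁ }
    haveI := S1526.result k S _ hQc hQd 1 le_rfl
    haveI := finite_proper k S _ hA'c 1
    have hsur : Function.Surjective (hhMap k ι₁ 1) := fun y =>
      LinearMap.mem_range.1 ((CurveRR.range_f_eq_ker_g (k := k) hT 1).symm ▸ LinearMap.mem_ker.2 (Subsingleton.elim _ _))
    exact lt_of_lt_of_le h1 (LinearMap.finrank_le_finrank_of_surjective hsur)
  have hB : ¬ Subsingleton (B.presheaf.stalk (xi j)) := fun hc => by
    haveI := hvan pB hc 0
    haveI : Subsingleton (Coh.HH S ((ExtShX.R A' 1).obj ω) 0) := hB0.subsingleton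
    rw [pA.h1_eq k hdim hω j hC, Module.finrank_zero_of_subsingleton] at hA1
    exact lt_irrefl _ hA1
  have hsB := hfull ι₂ sG hB
  haveI : Subsingleton ((cokernel ι₂ : S.Modules).presheaf.stalk (xi j)) := by
    refine subsingleton_of_forall_eq 0 fun v => ?_
    obtain ⟨w, rfl⟩ := SerrePn.stalk_surjective_of_epi (cokernel.π ι₂) (xi j) v
    obtain ⟨z, rfl⟩ := hsB w
    exact ((ShortComplex.ShortExact.moduleCat_exact_iff_function_exact _).1
      (({ exact := ShortComplex.exact_cokernel ι₂ } : (ShortComplex.mk ι₂ (cokernel.π ι₂) (cokernel.condition ι₂)).ShortExact).map_of_exact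
        (DerSch.stalkFunctor S (xi j))).exact _).2 ⟨z, rfl⟩
  obtain ⟨ψ, hψ⟩ := exists_dualMap ι₂ ω pG.coh hBc
  obtain ⟨eA⟩ := pA.nonempty_bidual k hdim hω j hC
  have pR := pB.dual k hdim hω hC
  let α : A' ⟶ (ExtShX.R B 1).obj ω := eA.inv ≫ ψ
  have hα : Function.Bijective (RefHull.stalkMapₗ α (xi j)) := by
    rw [show RefHull.stalkMapₗ α (xi j) = (RefHull.stalkMapₗ ψ (xi j)).comp (RefHull.stalkMapₗ eA.inv (xi j)) from
      RefFun.stalkMapₗ_comp _ _ _]
    exact (hψ _ ‹_›).comp (ConcreteCategory.bijective_of_isIso ((DerSch.stalkFunctor S (xi j)).map eA.inv))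
  haveI : Mono α := by
    have pK := pA.sub k hdim (kernel.ι α) (QC.isCoh_kernel hA'c pR.coh.1 α)
    refine Preadditive.mono_of_isZero_kernel _ (W7Baer.isZero_of_stalks _ fun x => ?_)
    have hz := pK.subsingleton k hdim hC (subsingleton_of_forall_eq 0 fun v => WeakAssLib.stalkHom_injective (kernel.ι α) _
      (hα.1 (by
        have h := RefFun.stalkMapₗ_comp (kernel.ι α) α (xi j)
        rw [kernel.condition] at h
        refine Eq.trans ?_ ((congrArg (RefHull.stalkMapₗ α (xi j)) (map_zero (WeakAssLib.stalkHom (kernel.ι α) (xi j)))).trans rfl).symm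
        refine (LinearMap.congr_fun h v).symm.trans ?_
        rw [map_zero]
        exact congr($(zero_stalkMap) v)))) x
    exact @ModuleCat.isZero_of_subsingleton _ _ ((DerSch.stalkFunctor S x).obj _) hz
  obtain ⟨hQc, hQd⟩ := hsupp α pA pR hα.2
  refine gg_of_h1 k (T := ShortComplex.mk α (cokernel.π α) (cokernel.condition α))
    { exact := ShortComplex.exact_cokernel α } hA'c pR.coh hQc hQd hA'g ?_
  show Module.finrank k (Coh.HH S A' 1) = Module.finrank k (Coh.HH S ((ExtShX.R B 1).obj ω) 1)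
  rw [pA.h1_eq k hdim hω j hC, pR.h1_eq k hdim hω j hC, (ExtShX.hhIso k eB 0).finrank_eq]
  refine (LinearEquiv.ofBijective (hhMap k ι₂ 0) ⟨?_, hB0⟩).finrank_eq.symm
  exact CurveRR.injective_f (k := k) (S := ShortComplex.mk ι₂ (cokernel.π ι₂) (cokernel.condition ι₂))
    { exact := ShortComplex.exact_cokernel ι₂ }
where
  zero_stalkMap {F G : S.Modules} {x : S} : RefHull.stalkMapₗ (0 : F ⟶ G) x = 0 := by
    refine LinearMap.ext fun v => ?_
    obtain ⟨U, hx, s, rfl⟩ := TopCat.Presheaf.exists_germ_eq F.presheaf v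
    rw [RefHull.stalkMapₗ_germ]
    exact map_zero _

end Groth.Agent.CurveBidual
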