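import Groth.Agent.CurveBidual.Main
import Groth.Agent.ExtShX.Global
import Groth.Agent.SerrePn.ClosedStatements
import Groth.Agent.W7Hull.AmpleSurj

/-!
Global `Ext¹` of a sheaf on a curve in a surface into the canonical sheaf.
-/

set_option autoImplicit false
set_option linter.style.haveILetI false
set_option linter.unusedSectionVars false
set_option backward.isDefEq.respectTransparency false
set_option backward.isDefEq.respectTransparency.types false

universe u

open CategoryTheory CategoryTheory.Limits AlgebraicGeometry TopologicalSpace Abelian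
open Groth.Agent.WeakAssLib (mgerm)
open Groth.Agent.SerrePn Groth.Agent.ExtShX

noncomputable section

namespace Groth.Agent.CurveBidual

/-- `Ext¹ = H⁰(ℰxt¹)` when the sheaf Hom has no higher cohomology. -/
theorem ext_one_h0 {X : Scheme.{u}} (A : Type u) [CommRing A] [X.Over (Spec (CommRingCat.of A))]
    [HasExt.{u} X.Modules] (F N : X.Modules) (h0 : ∀ p, Subsingleton (Coh.HH X ((R F 0).obj N) (p + 1))) :
    Nonempty (Ext F N 1 ≃ₗ[A] Coh.HH X ((R F 1).obj N) 0) := by
  let S := injSeq N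
  have hS : S.ShortExact := injSeq_shortExact N
  obtain ⟨ec⟩ := nonempty_quotIso F N
  have hI := imgSeq_shortExact F N
  have hQ := quotSeq_shortExact F N
  let c := coconn A hS F
  let Φ : (F ⟶ S.X₃) →ₗ[A] Coh.HH X (quotSeq F N).X₃ 0 :=
    (CohFinite.hhMap A (quotSeq F N).g 0).comp (homEval A F S.X₃)
  have hc : Function.Surjective c := fun x => by
    obtain ⟨y, rfl⟩ := Ext.covariant_sequence_exact₁ F hS x (Ext.eq_zero_of_injective _) (zero_add 1)
    obtain ⟨φ, rfl⟩ := (Ext.mk₀_bijective _ _).2 y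
    exact ⟨φ, rfl⟩
  have hΦ : Function.Surjective Φ := by
    refine Function.Surjective.comp (g := CohFinite.hhMap A (quotSeq F N).g 0) (fun y => ?_)
      (homEval_bijective A F S.X₃).2
    exact (CohFinite.δH_eq_zero_iff (CohFinite.shortExact_toAb hQ) 0 y).1
      (@Subsingleton.elim _ (hh_img A F N (h0) 0) _ _)
  have hker : LinearMap.ker c = LinearMap.ker Φ := by
    ext φ
    rw [LinearMap.mem_ker, LinearMap.mem_ker]
    show (Ext.mk₀ φ).comp hS.extClass rfl = 0 ↔
      CohFinite.hhMap A (quotSeq F N).g 0 (homEval A F S.X₃ φ) = 0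
    constructor
    · intro h
      obtain ⟨x, hx⟩ := Ext.covariant_sequence_exact₃ F hS (Ext.mk₀ φ) rfl h
      obtain ⟨ψ, rfl⟩ := (Ext.mk₀_bijective _ _).2 x
      rw [Ext.mk₀_comp_mk₀] at hx
      obtain rfl := (Ext.mk₀_bijective _ _).1 hx
      refine (CohFinite.map_g_eq_zero_iff (CohFinite.shortExact_toAb hQ) 0 _).2
        ⟨CohFinite.hhMap A (imgSeq F N).g 0 (homEval A F S.X₂ ψ), ?_⟩
      show CohFinite.hhMap A (imgι F N) 0 _ = _
      rw [← CohFinite.hhMap_comp, cokernel.π_desc]
      exact (homEval_comp A F ψ S.g).symm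
    · intro h
      obtain ⟨y, hy⟩ := (CohFinite.map_g_eq_zero_iff (CohFinite.shortExact_toAb hQ) 0 _).1 h
      obtain ⟨z, rfl⟩ := (CohFinite.δH_eq_zero_iff (CohFinite.shortExact_toAb hI) 0 y).1
        (@Subsingleton.elim _ ((hhIso A (zeroIso F N) 1).toEquiv.subsingleton_congr.1 (h0 0)) _ _)
      obtain ⟨ψ, rfl⟩ := (homEval_bijective A F S.X₂).2 z
      have hy' : CohFinite.hhMap A (imgι F N) 0 (CohFinite.hhMap A (imgSeq F N).g 0 (homEval A F S.X₂ ψ)) =
          homEval A F S.X₃ φ := hy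
      rw [← CohFinite.hhMap_comp, cokernel.π_desc] at hy'
      obtain rfl := (homEval_bijective A F S.X₃).1 ((homEval_comp A F ψ S.g).trans hy')
      rw [← Ext.mk₀_comp_mk₀, Ext.comp_assoc (Ext.mk₀ ψ) (Ext.mk₀ S.g) hS.extClass (add_zero 0) (zero_add 1)
        (by omega), hS.comp_extClass, Ext.comp_zero]
  exact ⟨(((c.quotKerEquivOfSurjective hc).symm.trans (Submodule.quotEquivOfEq _ _ hker)).trans
    (Φ.quotKerEquivOfSurjective hΦ)).trans (hhIso A ec 0)⟩

/-- No homomorphisms from a module vanishing at the generic point into a torsion-free one. -/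
theorem isZero_homSh {X : Scheme.{u}} [IsIntegral X] {F N : X.Modules}
    [Subsingleton (F.presheaf.stalk (genericPoint X))] (hN : Coh.IsQCoh N)
    (htf : ∀ x : X, Module.IsTorsionFree (X.presheaf.stalk x) (N.presheaf.stalk x)) :
    IsZero (RefHull.homSh F N) := by
  refine (IsZero.iff_id_eq_zero _).2 ?_
  apply Scheme.Modules.hom_ext
  intro U
  ext g
  refine Subtype.ext (funext fun x => W7Hull.stalkHom_ext x.2 fun V hV hxV a => ?_)
  haveI := htf x.1
  obtain ⟨n, hn⟩ := RefStalk.exists_app g hV a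
  have hη := (RefStalk.toGen x.1).mem_open V.2 hxV
  refine (hn x.1 hxV).symm.trans ?_
  refine RefStalk.msp_injective hN x.1 (Eq.trans ?_ (map_zero (RefStalk.msp N (RefStalk.toGen x.1))).symm)
  rw [RefStalk.msp_germ]
  refine (hn _ hη).trans ?_
  rw [Subsingleton.elim (mgerm F hη a) 0]
  exact map_zero _

variable (k : Type u) [Field k] [IsAlgClosed k] [CharZero k] {S : Scheme.{u}} [S.Over (Spec (CommRingCat.of k))]
  [IsIntegral S] [Smooth (S ↘ Spec (CommRingCat.of k))] [IsProper (S ↘ Spec (CommRingCat.of k))]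
  [HasExt.{u} S.Modules] (hdim : topologicalKrullDim S = 2) {ω : S.Modules}
  (hω : Canon.IsTopDiff (S ↘ Spec (CommRingCat.of k)) 2 ω)
  {C : Scheme.{u}} (j : C ⟶ S) [IsClosedImmersion j] [IsIntegral C] (hC : topologicalKrullDim C = 1)
  {M : C.Modules} (hM : Coh.IsCoh M)

include k hdim hω hC in
/-- The local-to-global comparison. -/
theorem ext_one_curve : Nonempty (Ext ((Coh.push j).obj M) ω 1 ≃ₗ[k]
    Coh.HH S ((R ((Coh.push j).obj M) 1).obj ω) 0) := by
  haveI := CurveRR.isNoetherian_of_proper k S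
  have hi := isInvertible_omega k hdim hω
  haveI := subsingleton_generic (M := M) hdim j hC
  refine ext_one_h0 k _ _ fun p => W7Hull.hh_subsingleton_of_isZero ?_ _
  refine (isZero_homSh (LocFree.isQCoh_of_isFinLocFree (ResDesc.isFinLocFree_of_isInvertible hi)) fun x => ?_).of_iso
    (zeroIso _ ω ≪≫ (W7Hull.sheafHomIso _).app ω)
  obtain ⟨e⟩ := CurveRR.Multi.nonempty_stalk_equiv hi x
  exact e.symm.injective.moduleIsTorsionFree e.symm (by simp)

include k hdim hω hM in
/-- Serre duality on the surface. -/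
theorem ext_one_dual : Nonempty (Ext ((Coh.push j).obj M) ω 1 ≃ₗ[k]
    Module.Dual k (Coh.HH S ((Coh.push j).obj M) 1)) := by
  haveI := CurveRR.isNoetherian_of_proper k S
  haveI := SurfAdj.smooth2 k hdim (X := S)
  obtain ⟨N, ι, hι₁, hι⟩ := SurfAdj.exists_emb k hdim (X := S)
  haveI := hι₁
  obtain ⟨t, ht⟩ := ExtFund.exists_trace_smooth ι hι ω hω
  exact (duality_of_cm ι hι (fun x hx => ExtFund.cm_dim_of_smooth (S ↘ Spec (CommRingCat.of k)) 2 x hx)
    ω (ExtFund.isCoh_top ι hι hω) t ht _ (SerrePn.isCoh_push j hM) 1).1 one_le_two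

end Groth.Agent.CurveBidual
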