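import Groth.Agent.CurveBidual.Basic
import Groth.Agent.StabK3.Dual
import Groth.Agent.ExtShX.Proj
import Groth.Agent.S15848

/-!
Biduality for rank-one sheaves on a curve in a projective surface.
-/

set_option autoImplicit false
set_option linter.style.haveILetI false
set_option linter.unusedSectionVars false
set_option backward.isDefEq.respectTransparency false
set_option backward.isDefEq.respectTransparency.types false

universe u

open CategoryTheory CategoryTheory.Limits AlgebraicGeometry TopologicalSpace
open Groth.Agent.WeakAssLib (mgerm)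

noncomputable section

namespace Groth.Agent.CurveBidual

/-- Restriction along a map which is surjective at the generic point is injective. -/
theorem mono_homComap {X : Scheme.{u}} [IsIntegral X] {E' E N : X.Modules} (f : E' ⟶ E)
    (hf : Function.Surjective (RefHull.stalkMapₗ f (genericPoint X))) (hN : Coh.IsQCoh N)
    (htf : ∀ x : X, Module.IsTorsionFree (X.presheaf.stalk x) (N.presheaf.stalk x)) :
    Mono (RefFun.homComap f N) := by
  refine Preadditive.mono_of_cancel_zero _ fun {Y} h hh => ?_
  apply Scheme.Modules.hom_ext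
  intro U
  ext m
  have h0 : (RefFun.homComap f N).app U (h.app U m) = 0 := congr(($hh).app U m)
  refine Subtype.ext (funext fun x => W7Hull.stalkHom_ext x.2 fun V hV hxV a => ?_)
  haveI := htf x.1
  obtain ⟨n, hn⟩ := RefStalk.exists_app (h.app U m) hV a
  have hη := (RefStalk.toGen x.1).mem_open V.2 hxV
  refine (hn x.1 hxV).symm.trans ?_
  refine RefStalk.msp_injective hN x.1 (Eq.trans ?_ (map_zero (RefStalk.msp N (RefStalk.toGen x.1))).symm)
  rw [RefStalk.msp_germ]
  refine (hn _ hη).trans ?_
  obtain ⟨w, hw⟩ := hf (mgerm E hη a)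
  rw [← hw]
  exact congr(($h0).1 ⟨genericPoint X, hV hη⟩ w)

variable (k : Type u) [Field k] [IsAlgClosed k] [CharZero k] {S : Scheme.{u}} [S.Over (Spec (CommRingCat.of k))]
  [IsIntegral S] [Smooth (S ↘ Spec (CommRingCat.of k))] [IsProper (S ↘ Spec (CommRingCat.of k))]
  (hdim : topologicalKrullDim S = 2) {ω : S.Modules}
  (hω : Canon.IsTopDiff (S ↘ Spec (CommRingCat.of k)) 2 ω)
  {C : Scheme.{u}} (j : C ⟶ S) [IsClosedImmersion j] [IsIntegral C] (hC : topologicalKrullDim C = 1)
  {M : C.Modules} (hM : Coh.IsCoh M) (hMtf : TorSh.IsTorsionFree M)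

include hdim hC in
/-- The generic point of the surface is not on the curve. -/
theorem subsingleton_generic : Subsingleton (((Coh.push j).obj M).presheaf.stalk (genericPoint S)) := by
  refine not_not.1 fun hc => ?_
  have h : genericPoint S ∈ Set.range j := CurveRR.support_push j M hc
  have hr : Set.range j = Set.univ :=
    Set.eq_univ_of_univ_subset ((genericPoint_spec S).symm ▸
      closure_minimal (Set.singleton_subset_iff.2 h) j.isClosedEmbedding.isClosed_range)
  have h2 := (j.isClosedEmbedding.isEmbedding.toHomeomorph.isHomeomorph.topologicalKrullDim_eq).symm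
  rw [hC, hr, (Homeomorph.Set.univ S).isHomeomorph.topologicalKrullDim_eq, hdim] at h2
  norm_cast at h2

include hdim hω in
/-- The canonical sheaf is invertible. -/
theorem isInvertible_omega : PicF.IsInvertible ω := by
  haveI := SurfAdj.smooth2 k hdim (X := S)
  obtain ⟨N, ι, hι₁, hι⟩ := SurfAdj.exists_emb k hdim (X := S)
  haveI := hι₁
  exact ExtFund.isInvertible_top ι hι hω

include k hdim hC hM hMtf in
/-- A two-term resolution by vector bundles. -/
theorem exists_resolution : ∃ T : ShortComplex S.Modules, T.ShortExact ∧ FlatMod.IsFinLocFree T.X₁ ∧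
    FlatMod.IsFinLocFree T.X₂ ∧ T.X₃ = (Coh.push j).obj M := by
  haveI := CurveRR.isNoetherian_of_proper k S
  obtain ⟨N, ι, hι₁, hι⟩ := SurfAdj.exists_emb k hdim (X := S)
  haveI := hι₁
  obtain ⟨L, p, hL, hp⟩ := ExtShX.covers ι ((Coh.push j).obj M) (SerrePn.isCoh_push j hM)
  haveI := hp
  refine ⟨ShortComplex.mk (kernel.ι p) p (kernel.condition p), { exact := ShortComplex.exact_kernel p }, ?_, hL, rfl⟩
  exact S15848.result k S hdim C j hC M hM hMtf L hL p

include k hdim hω hC hM hMtf in
/-- Biduality for torsion-free sheaves on the curve. -/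
theorem nonempty_curve_bidual :
    Nonempty ((ExtShX.R ((ExtShX.R ((Coh.push j).obj M) 1).obj ω) 1).obj ω ≅ (Coh.push j).obj M) := by
  haveI := CurveRR.isNoetherian_of_proper k S
  have hi := isInvertible_omega k hdim hω
  obtain ⟨T, hT, h1, h2, h3⟩ := exists_resolution k hdim j hC hM hMtf
  rw [← h3]
  refine nonempty_bidual hT h1 h2 hi (mono_homComap T.f (fun v => ?_)
    (LocFree.isQCoh_of_isFinLocFree (ResDesc.isFinLocFree_of_isInvertible hi)) fun x => ?_)
  · haveI : Subsingleton (T.X₃.presheaf.stalk (genericPoint S)) := by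
      rw [h3]
      exact subsingleton_generic hdim j hC
    exact WeakAssLib.stalk_exact _ hT _ v (Subsingleton.elim _ _)
  · obtain ⟨e⟩ := CurveRR.Multi.nonempty_stalk_equiv hi x
    exact e.symm.injective.moduleIsTorsionFree e.symm (by simp)

end Groth.Agent.CurveBidual
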