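import Groth.Agent.CurveBidual.Global
import Groth.Agent.SerrePn.HomExact
import Groth.Agent.Castel.ContractGG
import Groth.Agent.Intersect.ProperPoints
import Groth.Agent.ElemMod.Kernel

/-!
Sheaves of pure dimension one along an integral curve on a surface, and their first Ext duals.
-/

set_option autoImplicit false
set_option linter.style.haveILetI false
set_option linter.unusedSectionVars false
set_option backward.isDefEq.respectTransparency false
set_option backward.isDefEq.respectTransparency.types false

universe u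

open CategoryTheory CategoryTheory.Limits AlgebraicGeometry TopologicalSpace
open Groth.Agent.WeakAssLib (mgerm mgerm_smul)

noncomputable section

namespace Groth.Agent.CurveBidual

variable (k : Type u) [Field k] [IsAlgClosed k] [CharZero k] {S : Scheme.{u}} [S.Over (Spec (CommRingCat.of k))]
  [IsIntegral S] [Smooth (S ↘ Spec (CommRingCat.of k))] [IsProper (S ↘ Spec (CommRingCat.of k))]
  (hdim : topologicalKrullDim S = 2) {ω : S.Modules}
  (hω : Canon.IsTopDiff (S ↘ Spec (CommRingCat.of k)) 2 ω)
  {C : Scheme.{u}} (j : C ⟶ S) [IsClosedImmersion j] [IsIntegral C] (hC : topologicalKrullDim C = 1)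

/-- A coherent sheaf of projective dimension at most one supported on the curve. -/
structure Pure (F : S.Modules) : Prop where
  coh : Coh.IsCoh F
  pd : ∀ x : S, SerreReg.PdLE (S.presheaf.stalk x) (F.presheaf.stalk x) 1
  supp : ∀ x : S, x ∉ Set.range j → Subsingleton (F.presheaf.stalk x)

include hdim hC in
theorem generic_notMem : genericPoint S ∉ Set.range j := fun h => by
  have hr : Set.range j = Set.univ :=
    Set.eq_univ_of_univ_subset ((genericPoint_spec S).symm ▸
      closure_minimal (Set.singleton_subset_iff.2 h) j.isClosedEmbedding.isClosed_range)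
  have h2 := (j.isClosedEmbedding.isEmbedding.toHomeomorph.isHomeomorph.topologicalKrullDim_eq).symm
  rw [hC, hr, (Homeomorph.Set.univ S).isHomeomorph.topologicalKrullDim_eq, hdim] at h2
  norm_cast at h2

variable {j} in
include hdim hC in
theorem Pure.generic {F : S.Modules} (h : Pure j F) : Subsingleton (F.presheaf.stalk (genericPoint S)) :=
  h.supp _ (generic_notMem hdim j hC)

include k hdim in
theorem regular_stalk (x : S) : IsRegularLocalRing (S.presheaf.stalk x) := SurfAdj.regular k hdim x

include k hdim hC in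
theorem pure_push {M : C.Modules} (hM : Coh.IsCoh M) (hMtf : TorSh.IsTorsionFree M) :
    Pure j ((Coh.push j).obj M) := by
  haveI := CurveRR.isNoetherian_of_proper k S
  refine ⟨SerrePn.isCoh_push j hM, fun x => ?_, fun x hx => not_not.1 fun hc => hx (CurveRR.support_push j M hc)⟩
  haveI := regular_stalk k hdim x
  exact ElemMod.pdLE_one_push j hdim.le hC M hM hMtf x

variable {j} in
include k hdim in
theorem Pure.sub {F' F : S.Modules} (h : Pure j F) (i : F' ⟶ F) [Mono i] (hF' : Coh.IsCoh F') : Pure j F' := by
  haveI := CurveRR.isNoetherian_of_proper k S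
  refine ⟨hF', fun x => ?_, fun x hx => ?_⟩
  · haveI := regular_stalk k hdim x
    haveI := RegDual.finite_stalk hF' x
    haveI := RegDual.finite_stalk h.coh x
    obtain ⟨d, hd⟩ := SerreReg.exists_dim_nat (S.presheaf.stalk x)
    have hd2 : d ≤ 2 := by
      have h2 := (RegDual.ringKrullDim_stalk_le_topologicalKrullDim x).trans hdim.le
      rw [hd] at h2
      exact_mod_cast h2
    rw [FibDepth.pdLE_iff_le_depth (A := S.presheaf.stalk x) hd]
    have hF := (FibDepth.pdLE_iff_le_depth (A := S.presheaf.stalk x) hd (N := F.presheaf.stalk x) (k := 1)).1 (h.pd x)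
    rcases Nat.lt_or_ge d 2 with hlt | hge
    · simp [show d - 1 = 0 by omega]
    rw [show d - 1 = 1 by omega, Nat.cast_one] at hF ⊢
    rcases subsingleton_or_nontrivial (F'.presheaf.stalk x) with hsub | hnt
    · rw [FlatDepth.depth_eq_top]
      exact le_top
    have hi : Function.Injective (RefHull.stalkMapₗ i x) := WeakAssLib.stalkHom_injective i x
    haveI : Nontrivial (F.presheaf.stalk x) := hi.nontrivial
    rw [Order.one_le_iff_pos, Goren.depth_pos_iff_exists] at hF ⊢
    obtain ⟨a, ha, hreg⟩ := hF
    exact ⟨a, ha, fun m n hmn => hi (hreg (((RefHull.stalkMapₗ i x).map_smul a m).symm.trans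
      ((congrArg _ hmn).trans ((RefHull.stalkMapₗ i x).map_smul a n))))⟩
  · haveI := h.supp x hx
    exact (WeakAssLib.stalkHom_injective i x).subsingleton

variable {j} in
include k hdim in
theorem Pure.exists_res {F : S.Modules} (h : Pure j F) : ∃ T : ShortComplex S.Modules, T.ShortExact ∧
    FlatMod.IsFinLocFree T.X₁ ∧ FlatMod.IsFinLocFree T.X₂ ∧ T.X₃ = F := by
  haveI := CurveRR.isNoetherian_of_proper k S
  obtain ⟨N, ι, hι₁, hι⟩ := SurfAdj.exists_emb k hdim (X := S)
  haveI := hι₁
  obtain ⟨L, p, hL, hp⟩ := ExtShX.covers ι F h.coh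
  haveI := hp
  refine ⟨ShortComplex.mk (kernel.ι p) p (kernel.condition p), { exact := ShortComplex.exact_kernel p }, ?_, hL, rfl⟩
  refine RegDual.isFinLocFree_of_free_stalk (QC.isCoh_kernel (K0Coh.isCoh_of_isFinLocFree hL) h.coh.1 p) fun x => ?_
  haveI := regular_stalk k hdim x
  haveI := LocFree.free_stalk_of_isFinLocFree hL x
  haveI := RegDual.finite_stalk (K0Coh.isCoh_of_isFinLocFree hL) x
  exact ElemMod.free_stalk_kernel p x (h.pd x)

/-- Precomposition with a map bijective at a point is surjective there. -/
theorem surjective_stalk_homComap [IsLocallyNoetherian S] {E' E : S.Modules} (f : E' ⟶ E) (N : S.Modules)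
    (hE : Coh.IsCoh E) (hE' : Coh.IsCoh E') (x : S) (hf : Function.Bijective (RefHull.stalkMapₗ f x)) :
    Function.Surjective (WeakAssLib.stalkHom (RefFun.homComap f N) x) := fun t => by
  let e := LinearEquiv.ofBijective _ hf
  obtain ⟨s, hs⟩ := (RefStalk.bijective_evalStalk_of_isCoh (G := N) hE x).2
    ((RefHull.evalStalk E' N x t).comp e.symm.toLinearMap)
  refine ⟨s, (RefStalk.bijective_evalStalk_of_isCoh (G := N) hE' x).1 ?_⟩
  rw [SerrePn.evalStalk_comap, hs]
  refine LinearMap.ext fun v => ?_
  exact congrArg _ (e.symm_apply_apply v)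

include k hdim hω in
theorem mono_res {T : ShortComplex S.Modules} (hT : T.ShortExact) (h3 : Subsingleton (T.X₃.presheaf.stalk (genericPoint S))) :
    Mono (RefFun.homComap T.f ω) := by
  have hi := isInvertible_omega k hdim hω
  refine mono_homComap T.f (fun v => WeakAssLib.stalk_exact _ hT _ v (Subsingleton.elim _ _))
    (LocFree.isQCoh_of_isFinLocFree (ResDesc.isFinLocFree_of_isInvertible hi)) fun x => ?_
  obtain ⟨e⟩ := CurveRR.Multi.nonempty_stalk_equiv hi x
  exact e.symm.injective.moduleIsTorsionFree e.symm (by simp)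

variable {j} in
include k hdim hω hC in
/-- The first Ext dual is again pure. -/
theorem Pure.dual {F : S.Modules} (h : Pure j F) : Pure j ((ExtShX.R F 1).obj ω) := by
  haveI := CurveRR.isNoetherian_of_proper k S
  obtain ⟨T, hT, h1, h2, rfl⟩ := h.exists_res k hdim
  obtain ⟨e⟩ := nonempty_one hT h2 ω
  have hi := ResDesc.isFinLocFree_of_isInvertible (isInvertible_omega k hdim hω)
  have hH1 := W7Hull.isFinLocFree_homSh h1 hi
  have hH2 := W7Hull.isFinLocFree_homSh h2 hi
  haveI : Mono (RefFun.homComap T.f ω) := mono_res k hdim hω hT (h.generic hdim hC)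
  let U : ShortComplex S.Modules := ShortComplex.mk (RefFun.homComap T.f ω) (cokernel.π _) (cokernel.condition _)
  have hU : U.ShortExact := { exact := ShortComplex.exact_cokernel _ }
  have hc : Coh.IsCoh U.X₃ :=
    QC.isCoh_cokernel (K0Coh.isCoh_of_isFinLocFree hH2).1 (K0Coh.isCoh_of_isFinLocFree hH1) _
  refine ⟨CohFinite.isCoh_of_iso e.symm hc, fun x => ?_, fun x hx => ?_⟩
  · haveI := LocFree.free_stalk_of_isFinLocFree hH1 x
    haveI := LocFree.free_stalk_of_isFinLocFree hH2 x
    have hs := hU.map_of_exact (DerSch.stalkFunctor S x)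
    let φ : (RefHull.homSh T.X₁ ω).presheaf.stalk x →ₗ[S.presheaf.stalk x]
        ((ExtShX.R T.X₃ 1).obj ω).presheaf.stalk x :=
      ((DerSch.stalkFunctor S x).map (U.g ≫ e.inv)).hom
    have hφ : Function.Surjective φ := by
      haveI : Epi U.g := hU.epi_g
      exact (ModuleCat.epi_iff_surjective _).1 (inferInstance : Epi ((DerSch.stalkFunctor S x).map (U.g ≫ e.inv)))
    let ι : (RefHull.homSh T.X₂ ω).presheaf.stalk x →ₗ[S.presheaf.stalk x] (RefHull.homSh T.X₁ ω).presheaf.stalk x :=
      ((DerSch.stalkFunctor S x).map U.f).hom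
    have hex : Function.Exact ι φ := fun v => by
      have h0 := (ShortComplex.ShortExact.moduleCat_exact_iff_function_exact _).1 hs.exact v
      refine Iff.trans ?_ h0
      have hinj : Function.Injective ((DerSch.stalkFunctor S x).map e.inv).hom :=
        (ModuleCat.mono_iff_injective _).1 inferInstance
      show ((DerSch.stalkFunctor S x).map (U.g ≫ e.inv)).hom v = 0 ↔ _
      rw [Functor.map_comp]
      exact map_eq_zero_iff _ hinj
    have hι : Function.Injective ι := (ModuleCat.mono_iff_injective _).1 hs.mono_f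
    refine (SerreReg.pdLE_succ_iff φ hφ 0).2 ((SerreReg.pdLE_zero_iff _).2 ?_)
    exact Module.Projective.of_equiv ((LinearEquiv.ofInjective ι hι).trans
      (LinearEquiv.ofEq _ _ (LinearMap.exact_iff.1 hex).symm))
  · haveI := h.supp x hx
    haveI : Subsingleton (U.X₃.presheaf.stalk x) := by
      refine subsingleton_of_forall_eq 0 fun v => ?_
      haveI := hU.epi_g
      obtain ⟨w, rfl⟩ := SerrePn.stalk_surjective_of_epi U.g x v
      obtain ⟨t, rfl⟩ := surjective_stalk_homComap T.f ω (K0Coh.isCoh_of_isFinLocFree h2)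
        (K0Coh.isCoh_of_isFinLocFree h1) x
        ⟨by haveI := hT.mono_f; exact WeakAssLib.stalkHom_injective T.f x,
          fun v => WeakAssLib.stalk_exact _ hT _ v (Subsingleton.elim _ _)⟩ w
      exact ((ShortComplex.ShortExact.moduleCat_exact_iff_function_exact _).1
        (hU.map_of_exact (DerSch.stalkFunctor S x)).exact _).2 ⟨t, rfl⟩
    haveI : Subsingleton ((DerSch.stalkFunctor S x).obj (cokernel (RefFun.homComap T.f ω))) := this
    exact (ConcreteCategory.bijective_of_isIso ((DerSch.stalkFunctor S x).map e.hom)).1.subsingleton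

end Groth.Agent.CurveBidual
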