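import Groth.Agent.CurveBidual.Pure

/-!
The stalks at the generic point of the curve.
-/

set_option autoImplicit false
set_option linter.style.haveILetI false
set_option linter.unusedSectionVars false
set_option backward.isDefEq.respectTransparency false
set_option backward.isDefEq.respectTransparency.types false

universe u

open CategoryTheory CategoryTheory.Limits AlgebraicGeometry TopologicalSpace IsLocalRing
open Groth.Agent.WeakAssLib (mgerm mgerm_smul)

noncomputable section

namespace Groth.Agent.CurveBidual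

/-- At most a residue field. -/
def Small (R : Type u) [CommRing R] [IsLocalRing R] (M : Type u) [AddCommGroup M] [Module R M] : Prop :=
  (∀ t ∈ maximalIdeal R, ∀ v : M, t • v = 0) ∧ ∀ u v : M, v ≠ 0 → ∃ r : R, u = r • v

section Alg

variable {R : Type u} [CommRing R] [IsDomain R] [IsLocalRing R]

theorem Small.of_injective {M M' : Type u} [AddCommGroup M] [Module R M] [AddCommGroup M'] [Module R M']
    (f : M' →ₗ[R] M) (hf : Function.Injective f) (h : Small R M) : Small R M' := by
  refine ⟨fun t ht v => hf (by rw [map_smul, h.1 t ht, map_zero]), fun u v hv => ?_⟩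
  obtain ⟨r, hr⟩ := h.2 (f u) (f v) fun h0 => hv (hf (h0.trans (map_zero f).symm))
  exact ⟨r, hf (by rw [map_smul, hr])⟩

/-- The dual cokernel of a presentation of a small module is small. -/
theorem small_coker {F1 F0 Q G N : Type u} [AddCommGroup F1] [Module R F1] [AddCommGroup F0] [Module R F0]
    [AddCommGroup Q] [Module R Q] [AddCommGroup G] [Module R G] [AddCommGroup N] [Module R N]
    (e : R ≃ₗ[R] N) (φ : F1 →ₗ[R] F0) (q : F0 →ₗ[R] Q) (hφ : Function.Injective φ) (hq : Function.Surjective q)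
    (hex : Function.Exact φ q) (hQ : Small R Q) {t : R} (ht : maximalIdeal R = Ideal.span {t}) (ht0 : t ≠ 0)
    (p : (F1 →ₗ[R] N) →ₗ[R] G) (hp : Function.Surjective p)
    (hker : ∀ ψ, p ψ = 0 ↔ ∃ χ : F0 →ₗ[R] N, χ.comp φ = ψ) : Small R G := by
  let E := LinearEquiv.ofInjective φ hφ
  have hmem : ∀ s ∈ maximalIdeal R, ∀ v, s • v ∈ LinearMap.range φ := fun s hs v =>
    (hex (s • v)).1 (by rw [map_smul, hQ.1 s hs])
  let σ : ∀ s ∈ maximalIdeal R, F0 →ₗ[R] F1 := fun s hs =>
    E.symm.toLinearMap.comp ((s • LinearMap.id).codRestrict (LinearMap.range φ) (hmem s hs))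
  have hσ : ∀ s (hs : s ∈ maximalIdeal R) v, φ (σ s hs v) = s • v := fun s hs v => by
    have h : φ (E.symm ⟨s • v, hmem s hs v⟩) = s • v := by
      conv_rhs => rw [show s • v = ((⟨s • v, hmem s hs v⟩ : LinearMap.range φ) : F0) from rfl,
        ← E.apply_symm_apply ⟨s • v, hmem s hs v⟩]
      rfl
    exact h
  have hσφ : ∀ s (hs : s ∈ maximalIdeal R) u, σ s hs (φ u) = s • u := fun s hs u =>
    hφ (by rw [hσ s hs, map_smul])
  refine ⟨fun s hs g => ?_, fun g g' hg' => ?_⟩
  · obtain ⟨ψ, rfl⟩ := hp g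
    rw [← map_smul]
    exact (hker _).2 ⟨ψ.comp (σ s hs), LinearMap.ext fun u => by
      rw [LinearMap.comp_apply, LinearMap.comp_apply, hσφ s hs, map_smul]; rfl⟩
  have htm : t ∈ maximalIdeal R := ht ▸ Ideal.mem_span_singleton_self t
  obtain ⟨v0, hv0⟩ : ∃ v0, ∀ v : F0, ∃ (r : R) (u : F1), v = r • v0 + φ u := by
    by_cases hz : ∃ w : Q, w ≠ 0
    · obtain ⟨w, hw⟩ := hz
      obtain ⟨v0, rfl⟩ := hq w
      refine ⟨v0, fun v => ?_⟩
      obtain ⟨r, hr⟩ := hQ.2 (q v) (q v0) hw
      obtain ⟨u, hu⟩ := (hex (v - r • v0)).1 (by rw [map_sub, map_smul, hr, sub_self])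
      exact ⟨r, u, by rw [hu, add_sub_cancel]⟩
    · push Not at hz
      refine ⟨0, fun v => ?_⟩
      obtain ⟨u, hu⟩ := (hex v).1 (hz _)
      exact ⟨0, u, by rw [hu, smul_zero, zero_add]⟩
  let a : (F1 →ₗ[R] N) → R := fun ψ => e.symm (ψ (σ t htm v0))
  have key : ∀ ψ, a ψ ∈ maximalIdeal R → p ψ = 0 := by
    intro ψ hψ
    have hb : ∀ v, ∃ c, e.symm (ψ (σ t htm v)) = t * c := fun v => by
      obtain ⟨r, u, rfl⟩ := hv0 v
      rw [ht, Ideal.mem_span_singleton] at hψ
      obtain ⟨d, hd⟩ := hψ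
      refine ⟨r * d + e.symm (ψ u), ?_⟩
      simp only [map_add, map_smul, hσφ t htm, smul_eq_mul]
      rw [show e.symm (ψ (σ t htm v0)) = t * d from hd]
      ring
    choose c hc using hb
    let χ₀ : F0 →ₗ[R] R :=
      { toFun := c
        map_add' := fun v w => mul_left_cancel₀ ht0 (by rw [← hc, map_add, map_add, map_add, mul_add, hc, hc])
        map_smul' := fun r v => mul_left_cancel₀ ht0 (by
          rw [← hc, map_smul, map_smul, map_smul, hc, RingHom.id_apply, smul_eq_mul, smul_eq_mul]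
          ring) }
    refine (hker ψ).2 ⟨e.toLinearMap.comp χ₀, LinearMap.ext fun u => e.symm.injective ?_⟩
    refine mul_left_cancel₀ ht0 ?_
    show t * e.symm (e (c (φ u))) = t * e.symm (ψ u)
    rw [e.symm_apply_apply, ← hc, hσφ t htm, map_smul, map_smul, smul_eq_mul]
  obtain ⟨ψ, rfl⟩ := hp g
  obtain ⟨ψ', rfl⟩ := hp g'
  obtain ⟨u, hu⟩ : IsUnit (a ψ') := not_not.1 fun hn => hg' (key ψ' ((mem_maximalIdeal _).2 hn))
  refine ⟨a ψ * ↑u⁻¹, ?_⟩
  rw [← map_smul, ← sub_eq_zero, ← map_sub]
  refine key _ ?_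
  have : a (ψ - (a ψ * (↑u⁻¹ : R)) • ψ') = a ψ - (a ψ * ↑u⁻¹) * a ψ' := by
    simp only [a, LinearMap.sub_apply, LinearMap.smul_apply, map_sub, map_smul, smul_eq_mul]
  rw [this, ← hu, mul_assoc, Units.inv_mul, mul_one, sub_self]
  exact zero_mem _

end Alg

variable (k : Type u) [Field k] [IsAlgClosed k] [CharZero k] {S : Scheme.{u}} [S.Over (Spec (CommRingCat.of k))]
  [IsIntegral S] [Smooth (S ↘ Spec (CommRingCat.of k))] [IsProper (S ↘ Spec (CommRingCat.of k))]
  (hdim : topologicalKrullDim S = 2) {ω : S.Modules}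
  (hω : Canon.IsTopDiff (S ↘ Spec (CommRingCat.of k)) 2 ω)
  {C : Scheme.{u}} (j : C ⟶ S) [IsClosedImmersion j] [IsIntegral C] (hC : topologicalKrullDim C = 1)

/-- The generic point of the curve. -/
abbrev xi : S := j (genericPoint C)

include k hdim hC in
/-- A uniformiser at the generic point of the curve. -/
theorem exists_uniformiser : ∃ t : S.presheaf.stalk (xi j),
    maximalIdeal (S.presheaf.stalk (xi j)) = Ideal.span {t} ∧ t ≠ 0 := by
  haveI := regular_stalk k hdim (xi j)
  letI := specializationOrder S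
  obtain ⟨c', hc'⟩ := Castel.exists_ne_genericPoint hC
  have h2 : xi j ⤳ j c' := (genericPoint_specializes c').map j.continuous
  have hlt : j c' < xi j := lt_of_le_not_ge h2 fun (h : j c' ⤳ xi j) =>
    hc' (((j.isClosedEmbedding.isInducing.specializes_iff).1 h).antisymm (genericPoint_specializes c')).eq
  have h3 := Order.coheight_add_one_le hlt
  have h4 : ((Order.coheight (j c') : ℕ∞) : WithBot ℕ∞) ≤ ((2 : ℕ∞) : WithBot ℕ∞) := by
    rw [← ringKrullDim_stalk_eq_coheight]
    exact (RegDual.ringKrullDim_stalk_le_topologicalKrullDim _).trans hdim.le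
  have h5 : Order.coheight (xi j) ≤ 1 :=
    (ENat.add_le_add_iff_right (by simp : (1 : ℕ∞) ≠ ⊤)).1 ((h3.trans (WithBot.coe_le_coe.1 h4)).trans_eq one_add_one_eq_two.symm)
  have h6 : (maximalIdeal (S.presheaf.stalk (xi j))).spanFinrank ≤ 1 := by
    have h := IsRegularLocalRing.spanFinrank_maximalIdeal (R := S.presheaf.stalk (xi j))
    rw [ringKrullDim_stalk_eq_coheight] at h
    have h' := WithBot.coe_le_coe.2 h5
    rw [← h] at h'
    exact_mod_cast h'
  have hne : maximalIdeal (S.presheaf.stalk (xi j)) ≠ ⊥ := fun hb => by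
    have hf : IsField (S.presheaf.stalk (xi j)) := IsLocalRing.isField_iff_maximalIdeal_eq.2 hb
    have hc0 : Order.coheight (xi j) = 0 := by
      have h := ringKrullDim_stalk_eq_coheight (xi j)
      rw [ringKrullDim_eq_zero_of_isField hf] at h
      exact_mod_cast h.symm
    have hg : genericPoint S ⤳ xi j := genericPoint_specializes _
    have hxg : xi j ⤳ genericPoint S := (Order.coheight_eq_zero.1 hc0) (show xi j ≤ genericPoint S from hg)
    exact generic_notMem hdim j hC ⟨genericPoint C, (hxg.antisymm hg).eq⟩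
  have h7 : (maximalIdeal (S.presheaf.stalk (xi j))).spanFinrank = 1 := by
    refine le_antisymm h6 (Nat.one_le_iff_ne_zero.2 fun h0 => hne ?_)
    exact (Submodule.spanFinrank_eq_zero_iff_eq_bot (IsNoetherian.noetherian _)).1 h0
  obtain ⟨⟨t, ht⟩, -⟩ := (Submodule.spanFinrank_eq_one_iff _).1 h7
  refine ⟨t, ht, fun h0 => hne ?_⟩
  subst h0
  exact ht.trans (by simp)

variable {j} in
/-- The stalk of the direct image at the generic point of the curve. -/
theorem small_push {M : C.Modules}
    (hrk : Module.finrank (C.presheaf.stalk (genericPoint C)) (M.presheaf.stalk (genericPoint C)) = 1) :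
    Small (S.presheaf.stalk (xi j)) (((Coh.push j).obj M).presheaf.stalk (xi j)) := by
  letI : Field (C.presheaf.stalk (genericPoint C)) := inferInstanceAs (Field C.functionField)
  let θ := KFlat.pushStalk j (genericPoint C) M
  have hθ := KFlat.pushStalk_bijective j (genericPoint C) M
  have hs : ∀ (r : S.presheaf.stalk (xi j)) m, θ (r • m) = (j.stalkMap (genericPoint C)).hom r • θ m :=
    KFlat.pushStalk_smul j (genericPoint C) M
  refine ⟨fun t ht v => hθ.1 ?_, fun u v hv => ?_⟩
  · refine (hs t v).trans ?_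
    have h0 : (j.stalkMap (genericPoint C)).hom t = 0 := by
      by_contra hne
      exact ht (IsLocalHom.map_nonunit (f := (j.stalkMap (genericPoint C)).hom) t (isUnit_iff_ne_zero.2 hne))
    rw [h0, map_zero]
    exact zero_smul _ _
  · have hv' : θ v ≠ 0 := fun h => hv (hθ.1 (h.trans (map_zero θ).symm))
    obtain ⟨c, hc⟩ := exists_smul_eq_of_finrank_eq_one (K := C.presheaf.stalk (genericPoint C))
      (V := M.presheaf.stalk (genericPoint C)) hrk hv' (θ u)
    obtain ⟨r, rfl⟩ := j.stalkMap_surjective (genericPoint C) c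
    exact ⟨r, hθ.1 (hc.symm.trans (hs r v).symm)⟩

variable {j} in
include k hdim hω hC in
/-- Duality preserves smallness. -/
theorem Pure.small_dual {F : S.Modules} (h : Pure j F)
    (hs : Small (S.presheaf.stalk (xi j)) (F.presheaf.stalk (xi j))) :
    Small (S.presheaf.stalk (xi j)) (((ExtShX.R F 1).obj ω).presheaf.stalk (xi j)) := by
  haveI := CurveRR.isNoetherian_of_proper k S
  obtain ⟨T, hT, h1, h2, rfl⟩ := h.exists_res k hdim
  obtain ⟨e⟩ := nonempty_one hT h2 ω
  set x := xi j
  let U : ShortComplex S.Modules := ShortComplex.mk (RefFun.homComap T.f ω) (cokernel.π _) (cokernel.condition _)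
  haveI : Mono (RefFun.homComap T.f ω) := mono_res k hdim hω hT (h.generic hdim hC)
  have hU : U.ShortExact := { exact := ShortComplex.exact_cokernel _ }
  obtain ⟨t, ht, ht0⟩ := exists_uniformiser k hdim j hC
  obtain ⟨E⟩ := CurveRR.Multi.nonempty_stalk_equiv (isInvertible_omega k hdim hω) x
  let ev1 := LinearEquiv.ofBijective _ (RefStalk.bijective_evalStalk_of_isCoh (G := ω) (K0Coh.isCoh_of_isFinLocFree h1) x)
  let P : (T.X₁.presheaf.stalk x →ₗ[S.presheaf.stalk x] ω.presheaf.stalk x) →ₗ[S.presheaf.stalk x]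
      ((ExtShX.R T.X₃ 1).obj ω).presheaf.stalk x :=
    ((DerSch.stalkFunctor S x).map (U.g ≫ e.inv)).hom.comp ev1.symm.toLinearMap
  have hUs := hU.map_of_exact (DerSch.stalkFunctor S x)
  have hexU := (ShortComplex.ShortExact.moduleCat_exact_iff_function_exact _).1 hUs.exact
  have hinj : Function.Injective ((DerSch.stalkFunctor S x).map e.inv).hom :=
    (ModuleCat.mono_iff_injective _).1 inferInstance
  haveI := hT.mono_f
  haveI := hT.epi_g
  refine small_coker E (RefHull.stalkMapₗ T.f x) (RefHull.stalkMapₗ T.g x) (WeakAssLib.stalkHom_injective T.f x)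
    (SerrePn.stalk_surjective_of_epi T.g x)
    ((ShortComplex.ShortExact.moduleCat_exact_iff_function_exact _).1 (hT.map_of_exact (DerSch.stalkFunctor S x)).exact)
    hs ht ht0 P ?_ fun ψ => ?_
  · haveI : Epi U.g := hU.epi_g
    exact ((ModuleCat.epi_iff_surjective _).1
      (inferInstance : Epi ((DerSch.stalkFunctor S x).map (U.g ≫ e.inv)))).comp ev1.symm.surjective
  · show ((DerSch.stalkFunctor S x).map (U.g ≫ e.inv)).hom (ev1.symm ψ) = 0 ↔ _
    rw [Functor.map_comp]
    refine ((map_eq_zero_iff _ hinj).trans (hexU (ev1.symm ψ))).trans ⟨?_, ?_⟩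
    · rintro ⟨s, hs'⟩
      refine ⟨RefHull.evalStalk T.X₂ ω x s, ?_⟩
      rw [← SerrePn.evalStalk_comap]
      exact (congrArg ev1 hs').trans (ev1.apply_symm_apply ψ)
    · rintro ⟨χ, hχ⟩
      obtain ⟨s, hs'⟩ := (RefStalk.bijective_evalStalk_of_isCoh (G := ω) (K0Coh.isCoh_of_isFinLocFree h2) x).2 χ
      refine ⟨s, ev1.injective ?_⟩
      rw [ev1.apply_symm_apply, ← hχ, ← hs']
      exact SerrePn.evalStalk_comap T.f ω x s

variable {j} in
include k hdim hC in
/-- A pure sheaf vanishing at the generic point of the curve is zero. -/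
theorem Pure.subsingleton {F : S.Modules} (h : Pure j F) (h0 : Subsingleton (F.presheaf.stalk (xi j))) (x : S) :
    Subsingleton (F.presheaf.stalk x) := by
  haveI := CurveRR.isNoetherian_of_proper k S
  have hclosed : ∀ y : S, ¬ Subsingleton (F.presheaf.stalk y) → IsClosed ({y} : Set S) := by
    intro y hy
    obtain ⟨c, rfl⟩ := not_not.1 fun hn => hy (h.supp y hn)
    have hc : c ≠ genericPoint C := fun e => hy (e ▸ h0)
    simpa using j.isClosedEmbedding.isClosedMap _ (Castel.isClosed_of_ne_genericPoint hC.le hc)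
  by_contra hx
  haveI : Nontrivial (F.presheaf.stalk x) := not_subsingleton_iff_nontrivial.1 hx
  haveI := regular_stalk k hdim x
  haveI := RegDual.finite_stalk h.coh x
  obtain ⟨c, hcx⟩ := not_not.1 fun hn => hx (h.supp x hn)
  obtain ⟨d, hd⟩ := SerreReg.exists_dim_nat (S.presheaf.stalk x)
  have hd2 : 2 ≤ d := by
    letI := specializationOrder S
    have h2 : xi j ⤳ x := hcx ▸ (genericPoint_specializes c).map j.continuous
    have hne : ¬ x ⤳ xi j := fun hs => hx ((hs.antisymm h2).eq ▸ h0)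
    have hne' : ¬ xi j ⤳ genericPoint S := fun hs =>
      generic_notMem hdim j hC ⟨genericPoint C, (hs.antisymm (genericPoint_specializes _)).eq⟩
    have l1 := Order.coheight_add_one_le (show x < xi j from lt_of_le_not_ge h2 hne)
    have l2 := Order.coheight_add_one_le (show xi j < genericPoint S from lt_of_le_not_ge (genericPoint_specializes _) hne')
    have l3 : (2 : ℕ∞) ≤ Order.coheight x := by
      refine le_trans ?_ l1
      calc (2 : ℕ∞) = 1 + 1 := one_add_one_eq_two.symm
        _ ≤ Order.coheight (xi j) + 1 := add_le_add (le_trans le_add_self l2) le_rfl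
    have h5 := ringKrullDim_stalk_eq_coheight x
    rw [hd] at h5
    have h6 := WithBot.coe_le_coe.2 l3
    rw [← h5] at h6
    exact_mod_cast h6
  have hdep := (FibDepth.pdLE_iff_le_depth (A := S.presheaf.stalk x) hd (N := F.presheaf.stalk x) (k := 1)).1 (h.pd x)
  have hpos : (1 : ℕ∞) ≤ LocCoh.depth (S.presheaf.stalk x) (F.presheaf.stalk x) :=
    le_trans (by exact_mod_cast (show 1 ≤ d - 1 by omega)) hdep
  rw [Order.one_le_iff_pos, Goren.depth_pos_iff_exists] at hpos
  obtain ⟨a, ha, hreg⟩ := hpos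
  obtain ⟨v, hv⟩ := exists_ne (0 : F.presheaf.stalk x)
  obtain ⟨U, hU, hxU, -⟩ := exists_isAffineOpen_mem_and_subset (x := x) (U := (⊤ : S.Opens)) trivial
  have hl := QC.isLoc_of_isQCoh hU (hM := h.coh.1)
  obtain ⟨b, s, hb, hbs⟩ := WeakAssLib.exists_germ hU hl hxU v
  let φ := (S.presheaf.germ U x hxU).hom
  let I : Ideal (S.presheaf.stalk x) := LinearMap.ker (LinearMap.toSpanSingleton _ _ (mgerm F hxU s))
  have hrad : a ∈ I.radical := by
    rw [Ideal.radical_eq_sInf, Submodule.mem_sInf]
    rintro P ⟨hIP, hP⟩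
    suffices P = maximalIdeal _ by rw [this]; exact ha
    letI := (S.presheaf.germ U x hxU).hom.toAlgebra
    haveI := hU.isLocalization_stalk ⟨x, hxU⟩
    let p := (hU.primeIdealOf ⟨x, hxU⟩).asIdeal
    let P₀ : PrimeSpectrum Γ(S, U) := ⟨Ideal.comap φ P, hP.comap φ⟩
    have hmap : P = (P₀.asIdeal).map φ :=
      (IsLocalization.map_comap p.primeCompl (S.presheaf.stalk x) P).symm
    by_contra hne
    have hle : P₀.asIdeal ≤ p := fun r hr => by
      by_contra hrp
      exact hP.ne_top (Ideal.eq_top_of_isUnit_mem _ hr (WeakAssLib.isUnit_germ hU hxU hrp))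
    have hlt : P₀.asIdeal ≠ p := fun e => hne (by
      rw [hmap, e]
      exact IsLocalization.AtPrime.map_eq_maximalIdeal p (S.presheaf.stalk x))
    set y : S := hU.fromSpec P₀ with hy
    have hyU : y ∈ U := by
      show y ∈ (U : Set S)
      rw [← hU.range_fromSpec]
      exact Set.mem_range_self P₀
    have hyp : hU.primeIdealOf ⟨y, hyU⟩ = P₀ :=
      hU.fromSpec.isOpenEmbedding.injective (hU.fromSpec_primeIdealOf ⟨y, hyU⟩)
    have hspec : y ⤳ x := by
      have := ((PrimeSpectrum.le_iff_specializes P₀ (hU.primeIdealOf ⟨x, hxU⟩)).1 hle).map hU.fromSpec.continuous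
      rwa [hU.fromSpec_primeIdealOf ⟨x, hxU⟩] at this
    haveI : Subsingleton (F.presheaf.stalk y) := by
      by_contra hy0
      have hxy : x ∈ ({y} : Set S) := (hclosed y hy0).closure_eq ▸ specializes_iff_mem_closure.1 hspec
      refine hlt ?_
      have : P₀ = hU.primeIdealOf ⟨x, hxU⟩ := hU.fromSpec.isOpenEmbedding.injective
        (hy.symm.trans ((Set.mem_singleton_iff.1 hxy).symm.trans (hU.fromSpec_primeIdealOf ⟨x, hxU⟩).symm))
      exact congrArg PrimeSpectrum.asIdeal this
    obtain ⟨c, hc, hcs⟩ := (WeakAssLib.germ_eq_zero_iff hU hl hyU s).1 (Subsingleton.elim _ _)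
    refine hc ?_
    rw [hyp]
    refine hIP ?_
    show φ c • mgerm F hxU s = 0
    rw [← mgerm_smul, hcs, map_zero]
  obtain ⟨n, hn⟩ := hrad
  have h0' : a ^ n • v = 0 := by
    have hu := WeakAssLib.isUnit_germ hU hxU hb
    refine hu.smul_left_cancel.1 ?_
    rw [smul_comm, hbs, smul_zero]
    exact hn
  exact hv ((hreg.pow n) (h0'.trans (smul_zero _).symm))

end Groth.Agent.CurveBidual
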